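import Groth.Agent.Lib.QcohEt15.SuppSplit
import Groth.Agent.Lib.QcohEt15.SuppAnn
import Groth.Agent.Lib.QcohEt15.Presented
import Groth.Agent.Lib.AlgSpace.QC

/-! The submodule of sections supported on the complement of a quasi-compact open. -/

universe u v

open CategoryTheory CategoryTheory.Limits AlgebraicGeometry Opposite TensorProduct

set_option linter.style.haveILetI false
set_option backward.isDefEq.respectTransparency false

namespace Groth.Agent.QcohSub14

open AlgSp Groth.Agent.AlgSpEt Groth.Agent.AlgSpace Groth.Agent.QcohEt15 Groth.Agent.WeakAssEt15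

variable {S : Scheme.{u}} {X : Sp S}

/-- the trace of `T` on every affine chart is the zero locus of finitely many functions -/
def IsQcClosed (T : Set (Points X)) : Prop :=
  ∀ (W : EtOver X), IsAffine W.obj.left.left → ∃ s : Finset (Γo W),
    ∀ x : ↥W.obj.left.left, Points.ofPt W.obj.hom x ∉ T ↔ ∃ a ∈ s, x ∈ W.obj.left.left.basicOpen a

theorem isQcClosed_compl_range {U : Sp S} (hX : IsAlgSpace X) (hU : IsAlgSpace U) {j : U ⟶ X}
    (hj : RepWith @IsOpenImmersion j) (hqc : IsQuasiCompactMor j) :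
    IsQcClosed (Set.range (Points.map j))ᶜ := by
  intro W hW
  have sq := EtOver.isPullback_bcObj hj.1 W
  let π := (EtOver.bcπ hj.1 W).left
  have : IsOpenImmersion π := hj.2 W.obj.hom _ _ sq
  haveI := compactSpace_yon_of_affine W.obj.left
  haveI := compactSpace_of_isQuasiCompactMor hU hX hqc (IsAlgSpace.yon_obj W.obj.left) sq
  haveI : CompactSpace ↥(EtOver.bcObj hj.1 W).obj.left.left :=
    (Points.schemeHomeo (EtOver.bcObj hj.1 W).obj.left).symm.compactSpace
  have hO : ∀ x, Points.ofPt W.obj.hom x ∉ (Set.range (Points.map j))ᶜ ↔ x ∈ π.opensRange := fun x => by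
    rw [Set.notMem_compl_iff]
    exact ⟨fun ⟨z, hz⟩ => let ⟨v, _, hv⟩ := exists_pt_of_isPullback sq hz; ⟨v, hv⟩,
      fun ⟨v, hv⟩ => ⟨_, hv ▸ ofPt_sq sq.w v⟩⟩
  have hc : IsCompact (π.opensRange : Set ↥W.obj.left.left) := isCompact_range π.continuous
  obtain ⟨t, ht⟩ := hc.elim_finite_subcover
    (fun a : {a : Γo W // W.obj.left.left.basicOpen a ≤ π.opensRange} =>
      (W.obj.left.left.basicOpen a.1 : Set ↥W.obj.left.left))
    (fun a => (W.obj.left.left.basicOpen a.1).isOpen) fun x hx => by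
      obtain ⟨a, ha, hxa⟩ := (isAffineOpen_top W.obj.left.left).exists_basicOpen_le ⟨x, hx⟩ trivial
      exact Set.mem_iUnion.2 ⟨⟨a, ha⟩, hxa⟩
  classical
  refine ⟨t.image Subtype.val, fun x => (hO x).trans ⟨fun hx => ?_, fun ⟨a, ha, hxa⟩ => ?_⟩⟩
  · obtain ⟨a, ha, hxa⟩ := Set.mem_iUnion₂.1 (ht hx)
    exact ⟨a.1, Finset.mem_image_of_mem _ ha, hxa⟩
  · obtain ⟨b, -, rfl⟩ := Finset.mem_image.1 ha
    exact b.2 hxa

variable {M : ModEt X} {T : Set (Points X)}

theorem exists_cover (hT : IsQcClosed T) (E : EtOver X) [hE : IsAffine E.obj.left.left] :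
    ∃ (κ : Type u) (_ : Finite κ) (V : κ → EtOver X) (_ : ∀ i, IsAffine (V i).obj.left.left) (ι : ∀ i, V i ⟶ E),
      (∀ i v, Points.ofPt (V i).obj.hom v ∉ T) ∧
        ∀ x, Points.ofPt E.obj.hom x ∉ T → ∃ i, x ∈ Set.range (ι i).hom.left.left := by
  obtain ⟨s, hs⟩ := hT E hE
  refine ⟨s, inferInstance, fun a => AlgSpEt14.openSub E (E.obj.left.left.basicOpen a.1),
    fun a => (isAffineOpen_top E.obj.left.left).basicOpen a.1, fun a => AlgSpEt14.openSubι E _, fun a v => ?_, fun x hx => ?_⟩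
  · rw [AlgSpEt14.ofPt_openSub]
    exact (hs _).2 ⟨a.1, a.2, (AlgSpEt14.range_openSubι E _).le ⟨v, rfl⟩⟩
  · obtain ⟨a, ha, hxa⟩ := (hs x).1 hx
    exact ⟨⟨a, ha⟩, (AlgSpEt14.range_openSubι E _).ge hxa⟩

theorem good_suppMod_of_qcClosed (hA : IsAlgSpace X) (hT : IsQcClosed T) {E : EtOver X}
    [IsAffine E.obj.left.left] (hE : Good M E) : Good (suppMod M T) E := by
  intro E' _ g
  have := Tw.flat g
  have hinj : Function.Injective ((appₗ (suppι M T) E).lTensor (Tw g)) :=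
    Module.Flat.lTensor_preserves_injective_linearMap _ (appₗ_injective _ E)
  refine ⟨fun a b e => hinj ((hE g).1 ?_), fun w => ?_⟩
  · rw [← lift_appₗ_id, ← lift_appₗ_id, e]
  obtain ⟨z, hz⟩ := (hE g).2 (appₗ (suppι M T) E' w)
  obtain ⟨κ, hκ, V, hV, ι, hVZ, hcov⟩ := exists_cover hT E
  let f : ∀ i, sectModEt M E →ₗ[Γo E] Push M (ι i) := fun i => resP₀ M (ι i)
  have hK : ∀ s ∈ ⨅ i, (f i).ker, s ∈ (suppIn M T).obj (op E) := fun s hs W k hk => by
    obtain ⟨Z₀, hZ₀, -⟩ := exists_zero_open hA ((toAbEt X).obj M) E s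
    refine (hZ₀ W k).2 ?_
    rintro _ ⟨w, rfl⟩
    obtain ⟨i, hi⟩ := hcov _ (ofPt_map k w ▸ hk w)
    have h1 : f i s = 0 := LinearMap.mem_ker.1 ((Submodule.mem_iInf _).1 hs i)
    have h0 : res M (ι i) s = 0 := h1
    exact (hZ₀ (V i) (ι i)).1 h0 hi
  have h0 : ∀ i, (f i).lTensor (Tw g) z = 0 := fun i => by
    have := hV i
    refine (squareMap_bijective g (ι i) ((hE (ι i) |> fun h1 => BC.cancel h1 (hE _)))).1 ?_
    rw [map_zero, squareMap_resP₀, hz]
    exact w.2 (EtOver.pullbackFst g (ι i)) fun q => by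
      rw [ofPt_map (EtOver.pullbackSnd g (ι i))]
      exact hVZ i _
  obtain ⟨y, hy⟩ := mem_range_lTensor_iInf_ker f z h0
  let j : (⨅ i, (f i).ker : Submodule _ _) →ₗ[Γo E] sectModEt (suppMod M T) E :=
    { toFun := fun s => ⟨s.1, hK s.1 s.2⟩
      map_add' := fun a b => appₗ_injective (suppι M T) E (by rw [map_add]; rfl)
      map_smul' := fun r a => appₗ_injective (suppι M T) E (by rw [RingHom.id_apply, map_smul]; rfl) }
  refine ⟨j.lTensor (Tw g) y, appₗ_injective (suppι M T) E' ?_⟩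
  rw [lift_appₗ_id, ← LinearMap.lTensor_comp_apply,
    show appₗ (suppι M T) E ∘ₗ j = (⨅ i, (f i).ker).subtype from LinearMap.ext fun _ => rfl, hy, hz]

theorem mem_suppIn_iff_zeroLocus (hT : IsQcClosed T) {W : EtOver X} [IsAffine W.obj.left.left] (hM : Good M W)
    (x : sectModEt M W) :
    x ∈ (suppIn M T).obj (op W) ↔ W.obj.left.left.zeroLocus (U := ⊤) ((annSect x : Ideal (Γo W)) : Set (Γo W)) ⊆
      {w | Points.ofPt W.obj.hom w ∈ T} := by
  constructor
  · intro hx w hw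
    by_contra hwT
    obtain ⟨κ, hκ, V, hV, ι, hVT, hcov⟩ := exists_cover hT W
    obtain ⟨i, v, rfl⟩ := hcov w hwT
    have := hV i
    refine res_ne_zero hM (ι i) v x (fun a ha => ?_) (hx (ι i) (hVT i))
    rw [mem_primeAtPt_iff_notMem_basicOpen]
    exact (Scheme.mem_zeroLocus_iff _ _ _).1 hw a ha
  · intro h V k hk
    refine sections_ext_affine M fun Z _ g => ?_
    rw [map_zero, ← res_comp]
    refine sections_ext_family M (fun a : ↥(annSect x : Ideal (Γo W)) => AlgSpEt14.openSub Z (Z.obj.left.left.basicOpen (γ (g ≫ k) a.1)))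
      (fun a => AlgSpEt14.openSubι Z _) (fun z => ?_) fun a => ?_
    · by_contra hz
      refine hk (g.hom.left.left z) ?_
      rw [ofPt_map k]
      refine h ((Scheme.mem_zeroLocus_iff _ _ _).2 fun a ha hza => hz ⟨⟨a, ha⟩, (AlgSpEt14.range_openSubι Z _).ge ?_⟩)
      show z ∈ Z.obj.left.left.basicOpen ((g ≫ k).hom.left.left.appTop a)
      rw [← Scheme.preimage_basicOpen_top]
      exact hza
    · let D := AlgSpEt14.openSub Z (Z.obj.left.left.basicOpen (γ (g ≫ k) a.1))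
      let κ : D ⟶ Z := AlgSpEt14.openSubι Z (Z.obj.left.left.basicOpen (γ (g ≫ k) a.1))
      have hunit : IsUnit (γ κ (γ (g ≫ k) a.1)) := by
        change IsUnit (κ.hom.left.left.appTop.hom _)
        refine RingedSpace.isUnit_of_isUnit_germ _ ⊤ _ fun d _ => ?_
        refine (D.obj.left.left.mem_basicOpen (U := ⊤) _ d trivial).1 ?_
        rw [← Scheme.preimage_basicOpen_top]
        exact (AlgSpEt14.range_openSubι Z (Z.obj.left.left.basicOpen (γ (g ≫ k) a.1))).le ⟨d, rfl⟩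
      rw [map_zero]
      refine hunit.smul_eq_zero.1 ?_
      have ha : a.1 • x = 0 := (mem_annSect_iff x a.1).1 a.2
      rw [← res_smul, ← res_smul, ha, map_zero, map_zero]

theorem le_radical_annSect {W : EtOver X} [IsAffine W.obj.left.left] {I : Ideal (Γo W)}
    (x : sectModEt M W) (h : W.obj.left.left.zeroLocus (U := ⊤) ((annSect x : Ideal (Γo W)) : Set (Γo W)) ⊆
      W.obj.left.left.zeroLocus (U := ⊤) (I : Set (Γo W))) : I ≤ (annSect x).radical := fun a ha => by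
  rw [Ideal.radical_eq_sInf, Ideal.mem_sInf]
  rintro P ⟨hle, hP⟩
  obtain ⟨w, rfl⟩ := exists_point_of_prime P hP
  rw [mem_primeAtPt_iff_notMem_basicOpen]
  exact (Scheme.mem_zeroLocus_iff _ _ _).1 (h ((Scheme.mem_zeroLocus_iff _ _ _).2 fun b hb =>
    (mem_primeAtPt_iff_notMem_basicOpen b w).1 (hle hb))) a ha

theorem zeroLocus_annSect_subset_iff {W : EtOver X} [IsAffine W.obj.left.left] {I : Ideal (Γo W)} (hI : I.FG)
    (x : sectModEt M W) :
    W.obj.left.left.zeroLocus (U := ⊤) ((annSect x : Ideal (Γo W)) : Set (Γo W)) ⊆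
      W.obj.left.left.zeroLocus (U := ⊤) (I : Set (Γo W)) ↔ ∃ n : ℕ, ∀ a ∈ I ^ n, a • x = 0 := by
  refine ⟨fun h => ?_, fun ⟨n, hn⟩ w hw => ?_⟩
  · obtain ⟨n, hn⟩ := Ideal.exists_pow_le_of_le_radical_of_fg (le_radical_annSect x h) hI
    exact ⟨n, fun a ha => (mem_annSect_iff x a).1 (hn ha)⟩
  · refine (Scheme.mem_zeroLocus_iff _ _ _).2 fun a ha hwa => ?_
    have hann : a ^ (n + 1) ∈ annSect x := (mem_annSect_iff x _).2
      (hn _ (Ideal.pow_le_pow_right (Nat.le_succ n) (Ideal.pow_mem_pow ha (n + 1))))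
    refine (Scheme.mem_zeroLocus_iff _ _ _).1 hw _ hann ?_
    rw [Scheme.basicOpen_pow _ _ (Nat.succ_pos n)]
    exact hwa

theorem exists_supported (hA : IsAlgSpace X) (hT : IsQcClosed T) (M : ModEt X) [M.IsQuasicoherent] :
    (∀ W : EtOver X, IsAffine W.obj.left.left → ∃ I : Ideal (Γo W), I.FG ∧
      W.obj.left.left.zeroLocus (U := ⊤) (I : Set (Γo W)) = {w | Points.ofPt W.obj.hom w ∈ T}) ∧
    ∃ (F' : ModEt X) (ι : F' ⟶ M), Mono ι ∧ F'.IsQuasicoherent ∧
      (∀ W : EtOver X, IsAffine W.obj.left.left → Set.range (appₗ ι W) =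
        {x : sectModEt M W | W.obj.left.left.zeroLocus (U := ⊤) ((annSect x : Ideal (Γo W)) : Set (Γo W)) ⊆
          {w | Points.ofPt W.obj.hom w ∈ T}}) ∧
      ∀ W : EtOver X, IsAffine W.obj.left.left → ∀ I : Ideal (Γo W), I.FG →
        W.obj.left.left.zeroLocus (U := ⊤) (I : Set (Γo W)) = {w | Points.ofPt W.obj.hom w ∈ T} →
        Set.range (appₗ ι W) = {x : sectModEt M W | ∃ n : ℕ, ∀ a ∈ I ^ n, a • x = 0} := by
  have hrange : ∀ W : EtOver X, IsAffine W.obj.left.left → ∀ x : sectModEt M W, x ∈ Set.range (appₗ (suppι M T) W) ↔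
      W.obj.left.left.zeroLocus (U := ⊤) ((annSect x : Ideal (Γo W)) : Set (Γo W)) ⊆ {w | Points.ofPt W.obj.hom w ∈ T} :=
    fun W hW x => by
      rw [← mem_suppIn_iff_zeroLocus hT (good_of_isQuasicoherent W) x]
      exact ⟨fun ⟨t, ht⟩ => ht ▸ t.2, fun h => ⟨⟨x, h⟩, rfl⟩⟩
  refine ⟨fun W hW => ?_, suppMod M T, suppι M T, inferInstance,
    isQuasicoherent_of_good fun E _ => good_suppMod_of_qcClosed hA hT (good_of_isQuasicoherent E),
    fun W hW => Set.ext (hrange W hW), fun W hW I hI hIT => Set.ext fun x => ?_⟩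
  · obtain ⟨s, hs⟩ := hT W hW
    refine ⟨Ideal.span ↑s, ⟨s, rfl⟩, Set.ext fun w => ?_⟩
    show _ ↔ Points.ofPt W.obj.hom w ∈ T
    rw [← not_not (a := Points.ofPt W.obj.hom w ∈ T), hs w, Scheme.zeroLocus_span, Scheme.mem_zeroLocus_iff]
    simp
  · rw [hrange W hW x, ← hIT]
    exact zeroLocus_annSect_subset_iff hI x

end Groth.Agent.QcohSub14
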