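import Groth.Agent.Lib.QcohEt15.SuppSplit
import Groth.Agent.Lib.QcohEt15.Presented

/-! The submodule of sections annihilated by an ideal of finite type. -/

universe u v

open CategoryTheory CategoryTheory.Limits AlgebraicGeometry Opposite TensorProduct

set_option linter.style.haveILetI false
set_option backward.isDefEq.respectTransparency false

namespace Groth.Agent.QcohSub14

open AlgSp Groth.Agent.QcohEt15

variable {S : Scheme.{u}} {X : Sp S}

/-- sections killed by an ideal sheaf -/
noncomputable def annIn (M : ModEt X) (I : IdealEt X) : M.val.Submodule where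
  obj E :=
    { carrier := {s : sectModEt M E.unop | ∀ ⦃W : EtOver X⦄ (hW : IsAffine W.obj.left.left) (k : W ⟶ E.unop),
        ∀ a ∈ I.ideal W hW, a • res M k s = 0}
      add_mem' := fun {a b} ha hb W hW k c hc => by rw [map_add, smul_add, ha hW k c hc, hb hW k c hc, add_zero]
      zero_mem' := fun W hW k c _ => by rw [map_zero, smul_zero]
      smul_mem' := fun r {a} ha W hW k c hc => by
        refine (congrArg (fun t => c • t) (res_smul M k (ULift.down r) a)).trans ?_
        rw [smul_comm, ha hW k c hc, smul_zero] }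
  map {E E'} g := fun s hs W hW k c hc => by
    change c • res M k (res M g.unop s) = 0
    rw [← res_comp]
    exact hs hW (k ≫ g.unop) c hc

theorem isLocalSub_annIn (M : ModEt X) (I : IdealEt X) : IsLocalSub (annIn M I) := by
  intro E s R hR h W hW k c hc
  refine sections_ext_affine M fun Z _ g => ?_
  refine (isSheaf_sections M _ ((etTop X).pullback_stable (g ≫ k) hR)).isSeparatedFor.ext fun Y l hl => ?_
  change res M l _ = res M l _
  rw [map_zero, map_zero, ← res_comp]
  refine sections_ext_affine M fun T _ t => ?_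
  rw [map_zero, ← res_comp, res_smul, ← res_comp]
  have h1 := h (l ≫ g ≫ k) hl ‹IsAffine T.obj.left.left› t (γ (t ≫ l ≫ g) c)
    (I.map_le (t ≫ l ≫ g) hW ‹_› (Ideal.mem_map_of_mem _ hc))
  rwa [← res_comp, ← Category.assoc, ← Category.assoc] at h1

theorem mem_annIn_iff {M : ModEt X} {I : IdealEt X} (hI : I.IsQCoh) {E : EtOver X} (hE : IsAffine E.obj.left.left)
    (s : sectModEt M E) : s ∈ (annIn M I).obj (op E) ↔ ∀ a ∈ I.ideal E hE, a • s = 0 := by
  refine ⟨fun h a ha => by have := h hE (𝟙 E) a ha; rwa [res_id] at this, fun h W hW k c hc => ?_⟩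
  have hle : Ideal.map (γ k) (I.ideal E hE) ≤ LinearMap.ker (LinearMap.toSpanSingleton (Γo W) _ (res M k s)) := by
    rw [Ideal.map_le_iff_le_comap]
    intro a ha
    rw [Ideal.mem_comap, LinearMap.mem_ker, LinearMap.toSpanSingleton_apply, ← res_smul, h a ha, map_zero]
  exact hle (hI k hE hW hc)

/-- the submodule of sections killed by an ideal -/
noncomputable def annMod (M : ModEt X) (I : IdealEt X) : ModEt X := subMod (annIn M I) (isLocalSub_annIn M I)

/-- its inclusion -/
noncomputable def annι (M : ModEt X) (I : IdealEt X) : annMod M I ⟶ M := subι (annIn M I) (isLocalSub_annIn M I)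

instance (M : ModEt X) (I : IdealEt X) : Mono (annι M I) := by
  have : Mono ((SheafOfModules.forget (OEtRing X)).map (annι M I)) := inferInstanceAs (Mono (annIn M I).ι)
  exact (SheafOfModules.forget (OEtRing X)).mono_of_mono_map this

theorem good_annMod {M : ModEt X} {I : IdealEt X} (hI : I.IsQCoh) {E : EtOver X} [hE' : IsAffine E.obj.left.left]
    (hft : (I.ideal E hE').FG) (hE : Good M E) : Good (annMod M I) E := by
  intro E' hE'' g
  have := Tw.flat g
  have hinj : Function.Injective ((appₗ (annι M I) E).lTensor (Tw g)) :=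
    Module.Flat.lTensor_preserves_injective_linearMap _ (appₗ_injective _ E)
  refine ⟨fun a b e => hinj ((hE g).1 ?_), fun w => ?_⟩
  · rw [← lift_appₗ_id, ← lift_appₗ_id, e]
  obtain ⟨z, hz⟩ := (hE g).2 (appₗ (annι M I) E' w)
  obtain ⟨n, a, ha⟩ := Submodule.fg_iff_exists_fin_generating_family.1 hft
  let f : ULift.{u} (Fin n) → sectModEt M E →ₗ[Γo E] sectModEt M E := fun i => LinearMap.lsmul (Γo E) _ (a i.down)
  have hK : ∀ s ∈ ⨅ i, (f i).ker, s ∈ (annIn M I).obj (op E) := fun s hs => by
    refine (mem_annIn_iff hI hE' s).2 ?_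
    rw [← ha]
    intro c hc
    induction hc using Submodule.span_induction with
    | mem x hx => obtain ⟨i, rfl⟩ := hx; exact LinearMap.mem_ker.1 ((Submodule.mem_iInf _).1 hs ⟨i⟩)
    | zero => exact zero_smul _ _
    | add x y _ _ hx hy => rw [add_smul, hx, hy, add_zero]
    | smul r x _ hx => rw [smul_eq_mul, mul_smul, hx, smul_zero]
  have h0 : ∀ i, (f i).lTensor (Tw g) z = 0 := fun i => by
    refine (hE g).1 ?_
    have hl : ∀ y, lift g LinearMap.id ((f i).lTensor (Tw g) y) = γ g (a i.down) • lift g LinearMap.id y := fun y => by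
      induction y using TensorProduct.induction_on with
      | zero => simp
      | tmul b m =>
        rw [LinearMap.lTensor_tmul, lift_tmul, lift_tmul, LinearMap.id_apply, LinearMap.id_apply]
        change _ • res M g (a i.down • m) = _
        rw [res_smul]
        exact smul_comm _ _ _
      | add x y hx hy => rw [map_add, map_add, map_add, hx, hy, smul_add]
    rw [hl, map_zero, hz]
    exact (mem_annIn_iff hI hE'' _).1 w.2 _
      (I.map_le g hE' hE'' (Ideal.mem_map_of_mem _ (ha ▸ Submodule.subset_span ⟨i.down, rfl⟩)))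
  obtain ⟨y, hy⟩ := mem_range_lTensor_iInf_ker f z h0
  let j : (⨅ i, (f i).ker : Submodule _ _) →ₗ[Γo E] sectModEt (annMod M I) E :=
    { toFun := fun s => ⟨s.1, hK s.1 s.2⟩
      map_add' := fun a b => appₗ_injective (annι M I) E (by rw [map_add]; rfl)
      map_smul' := fun r a => appₗ_injective (annι M I) E (by rw [RingHom.id_apply, map_smul]; rfl) }
  refine ⟨j.lTensor (Tw g) y, appₗ_injective (annι M I) E' ?_⟩
  rw [lift_appₗ_id, ← LinearMap.lTensor_comp_apply,
    show appₗ (annι M I) E ∘ₗ j = (⨅ i, (f i).ker).subtype from LinearMap.ext fun _ => rfl, hy, hz]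

theorem exists_annihilated (M : ModEt X) [M.IsQuasicoherent] (I : IdealEt X) (hI : I.IsQCoh)
    (hft : ∀ (E : EtOver X) (hE : IsAffine E.obj.left.left), (I.ideal E hE).FG) :
    ∃ (F' : ModEt X) (ι : F' ⟶ M), Mono ι ∧ F'.IsQuasicoherent ∧
      ∀ (E : EtOver X) (hE : IsAffine E.obj.left.left),
        Set.range (appₗ ι E) = {s : sectModEt M E | ∀ a ∈ I.ideal E hE, a • s = 0} := by
  refine ⟨annMod M I, annι M I, inferInstance,
    isQuasicoherent_of_good fun E _ => good_annMod hI (hft E _) (good_of_isQuasicoherent E), fun E hE => ?_⟩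
  ext s
  exact ⟨fun ⟨t, ht⟩ => ht ▸ (mem_annIn_iff hI hE _).1 t.2, fun h => ⟨⟨s, (mem_annIn_iff hI hE s).2 h⟩, rfl⟩⟩

end Groth.Agent.QcohSub14
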