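import Groth.Agent.Lib.QcohEt15.SuppSplit
import Groth.Agent.Lib.QcohEt15.Presented
import Groth.Agent.Lib.QcohEt15.Finite
import Mathlib.RingTheory.Smooth.IntegralClosure
import Mathlib.Algebra.Category.ModuleCat.Sheaf.ChangeOfRings

/-! The integral closure of the structure sheaf in a quasi-coherent algebra on the small etale site. -/

universe u v

open CategoryTheory CategoryTheory.Limits AlgebraicGeometry Opposite TensorProduct

set_option linter.style.haveILetI false
set_option backward.isDefEq.respectTransparency false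
set_option backward.isDefEq.respectTransparency.types false

namespace Groth.Agent.QcohSub14

open AlgSp Groth.Agent.AlgSpEt Groth.Agent.QcohEt15

theorem mem_span_image_integral {R S : Type u} {B C : Type v} [CommRing R] [CommRing S] [CommRing B] [CommRing C]
    [Algebra R S] [Algebra.Smooth R S] [Algebra R B] [Algebra R C] [Algebra S C] [IsScalarTower R S C]
    (r : B →ₐ[R] C)
    (hb : Function.Bijective (Algebra.TensorProduct.lift (Algebra.ofId S C) r fun _ _ => mul_comm _ _))
    (c : C) (hc : IsIntegral S c) : c ∈ Submodule.span S (r '' {b | IsIntegral R b}) := by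
  let Λ := Algebra.TensorProduct.lift (Algebra.ofId S C) r fun _ _ => mul_comm _ _
  let e := AlgEquiv.ofBijective Λ hb
  obtain ⟨y, hy⟩ := TensorProduct.toIntegralClosure_bijective_of_smooth.2
    (⟨e.symm c, hc.map e.symm.toAlgHom⟩ : integralClosure S (S ⊗[R] B))
  have h : c = Λ (TensorProduct.toIntegralClosure R S B y).1 := by
    rw [hy]
    exact (e.apply_symm_apply c).symm
  rw [h]
  clear h hy
  induction y with
  | zero => rw [map_zero, ZeroMemClass.coe_zero, map_zero]; exact zero_mem _
  | tmul s b =>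
    have h1 : Λ (TensorProduct.toIntegralClosure R S B (s ⊗ₜ b)).1 = s • r b.1 :=
      (Algebra.TensorProduct.lift_tmul _ _ _ s b.1).trans (Algebra.smul_def s (r b.1)).symm
    rw [h1]
    exact Submodule.smul_mem _ _ (Submodule.subset_span ⟨b.1, b.2, rfl⟩)
  | add x y hx hy => rw [map_add, AddMemClass.coe_add, map_add]; exact add_mem hx hy

variable {S : Scheme.{u}} {X : Sp S} {A : EtSh X CommRingCat.{u + 1}} (φ : OEt X ⟶ A)

/-- an algebra as a module -/
noncomputable abbrev algMod : ModEt X :=
  (SheafOfModules.restrictScalars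
    ((sheafCompose (etTop X) (forget₂ CommRingCat.{u + 1} RingCat.{u + 1})).map φ)).obj
    (SheafOfModules.unit ((sheafCompose (etTop X) (forget₂ CommRingCat.{u + 1} RingCat.{u + 1})).obj A))

/-- functions acting on sections of the algebra -/
noncomputable def aHom (E : EtOver X) : Γo E →+* A.obj.obj (op E) :=
  (φ.hom.app (op E)).hom.comp (ULift.ringEquiv.symm.toRingHom : Γo E →+* (OEt X).obj.obj (op E))

theorem map_aHom {E E' : EtOver X} (g : E' ⟶ E) (a : Γo E) :
    A.obj.map g.op (aHom φ E a) = aHom φ E' (γ g a) :=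
  (NatTrans.naturality_apply φ.hom g.op _).symm

theorem isIntegralElem_res {E W : EtOver X} (k : W ⟶ E) {x : A.obj.obj (op E)}
    (h : (aHom φ E).IsIntegralElem x) : (aHom φ W).IsIntegralElem (A.obj.map k.op x) := by
  obtain ⟨p, hp, hx⟩ := h
  refine ⟨p.map (γ k), hp.map _, ?_⟩
  rw [Polynomial.eval₂_map, show (aHom φ W).comp (γ k) = (A.obj.map k.op).hom.comp (aHom φ E) from
    RingHom.ext fun a => (map_aHom φ k a).symm, ← Polynomial.hom_eval₂, hx, map_zero]

/-- integral sections on `E` -/
noncomputable def intSub (E : EtOver X) : Submodule (Γo E) (sectModEt (algMod φ) E) where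
  carrier := {x : A.obj.obj (op E) | (aHom φ E).IsIntegralElem x}
  add_mem' := fun {a b} ha hb => RingHom.IsIntegralElem.add _ ha hb
  zero_mem' := (aHom φ E).isIntegralElem_zero
  smul_mem' := fun r {a} ha => RingHom.IsIntegralElem.mul _ ((aHom φ E).isIntegralElem_map) ha

theorem intSub_le_range_lift [(algMod φ).IsQuasicoherent] {E Z : EtOver X} [IsAffine E.obj.left.left] [IsAffine Z.obj.left.left] (k : Z ⟶ E) :
    intSub φ Z ≤ LinearMap.range (liftₗ k (intSub φ E).subtype) := by
  intro c hc
  letI : Algebra (Γo E) (Γo Z) := (γ k).toAlgebra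
  haveI : Algebra.Smooth (Γo E) (Γo Z) := by
    have := EtOver.etale_left k
    have h : (γ k).Etale := HasRingHomProperty.appTop @Etale k.hom.left.left inferInstance
    haveI : Algebra.Etale (Γo E) (Γo Z) := h
    infer_instance
  letI : Algebra (Γo E) (A.obj.obj (op E)) := (aHom φ E).toAlgebra
  letI : Algebra (Γo Z) (A.obj.obj (op Z)) := (aHom φ Z).toAlgebra
  letI : Algebra (Γo E) (A.obj.obj (op Z)) := ((aHom φ Z).comp (γ k)).toAlgebra
  haveI : IsScalarTower (Γo E) (Γo Z) (A.obj.obj (op Z)) := IsScalarTower.of_algebraMap_eq' rfl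
  let r : A.obj.obj (op E) →ₐ[Γo E] A.obj.obj (op Z) :=
    { (A.obj.map k.op).hom with commutes' := fun a => map_aHom φ k a }
  let e₁ : Γo Z ≃ₗ[Γo E] Tw k :=
    { toFun := Tw.mk k
      invFun := Tw.out
      map_add' := fun _ _ => rfl
      map_smul' := fun _ _ => rfl
      left_inv := fun _ => rfl
      right_inv := fun _ => rfl }
  let e₂ : A.obj.obj (op E) ≃ₗ[Γo E] sectModEt (algMod φ) E :=
    { toFun := fun x => x
      invFun := fun x => x
      map_add' := fun _ _ => rfl
      map_smul' := fun _ _ => rfl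
      left_inv := fun _ => rfl
      right_inv := fun _ => rfl }
  have hΛ : ∀ z, (Algebra.TensorProduct.lift (Algebra.ofId (Γo Z) (A.obj.obj (op Z))) r fun _ _ => mul_comm _ _) z =
      lift k (LinearMap.id : sectModEt (algMod φ) E →ₗ[Γo E] _) (TensorProduct.congr e₁ e₂ z) := fun z => by
    induction z using TensorProduct.induction_on with
    | zero => rw [map_zero, map_zero, map_zero]
    | tmul s b =>
      rw [Algebra.TensorProduct.lift_tmul, TensorProduct.congr_tmul, lift_tmul]
      rfl
    | add x y hx hy => rw [map_add, map_add, map_add, hx, hy]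
  have hb : Function.Bijective
      (Algebra.TensorProduct.lift (Algebra.ofId (Γo Z) (A.obj.obj (op Z))) r fun _ _ => mul_comm _ _) := by
    have h := Function.Bijective.comp ((good_of_isQuasicoherent (M := algMod φ) E) k) (TensorProduct.congr e₁ e₂).bijective
    exact (show ⇑(Algebra.TensorProduct.lift (Algebra.ofId (Γo Z) (A.obj.obj (op Z))) r fun _ _ => mul_comm _ _) = _
      from funext hΛ) ▸ h
  have hspan := mem_span_image_integral r hb c hc
  clear hc
  induction hspan using Submodule.span_induction with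
  | mem x hx =>
    obtain ⟨b, hb, rfl⟩ := hx
    exact ⟨(1 : Tw k) ⊗ₜ ⟨b, hb⟩, lift_one_tmul k (intSub φ E).subtype ⟨b, hb⟩⟩
  | zero => exact zero_mem _
  | add x y _ _ hx hy => exact add_mem hx hy
  | smul s x _ hx => exact Submodule.smul_mem _ (s : Γo Z) hx

/-- the subring of locally integral sections -/
noncomputable def intRing (E : EtOver X) : Subring (A.obj.obj (op E)) where
  carrier := {x | ∀ ⦃W : EtOver X⦄ [IsAffine W.obj.left.left] (k : W ⟶ E), (aHom φ W).IsIntegralElem (A.obj.map k.op x)}
  mul_mem' := fun {a b} ha hb W _ k => by rw [map_mul]; exact RingHom.IsIntegralElem.mul _ (ha k) (hb k)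
  one_mem' := fun W _ k => by rw [map_one]; exact (aHom φ W).isIntegralElem_one
  add_mem' := fun {a b} ha hb W _ k => by rw [map_add]; exact RingHom.IsIntegralElem.add _ (ha k) (hb k)
  zero_mem' := fun W _ k => by rw [map_zero]; exact (aHom φ W).isIntegralElem_zero
  neg_mem' := fun {a} ha W _ k => by rw [map_neg]; exact RingHom.IsIntegralElem.neg _ (ha k)

theorem mem_intRing_iff {E : EtOver X} [IsAffine E.obj.left.left] (x : A.obj.obj (op E)) :
    x ∈ intRing φ E ↔ (aHom φ E).IsIntegralElem x :=
  ⟨fun h => by have := h (𝟙 E); rwa [show A.obj.map (𝟙 E).op x = x by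
    rw [op_id, CategoryTheory.Functor.map_id]; rfl] at this, fun h W _ k => isIntegralElem_res φ k h⟩

theorem map_mem_intRing {E E' : EtOver X} (g : E' ⟶ E) (x : A.obj.obj (op E)) (hx : x ∈ intRing φ E) :
    A.obj.map g.op x ∈ intRing φ E' := fun W _ k => by
  have := hx (k ≫ g)
  rwa [op_comp, Functor.map_comp, ConcreteCategory.comp_apply] at this

/-- the presheaf of locally integral sections -/
noncomputable def intPre : (EtOver X)ᵒᵖ ⥤ CommRingCat.{u + 1} where
  obj E := CommRingCat.of (intRing φ E.unop)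
  map {E E'} g := CommRingCat.ofHom
    ((((A.obj.map g).hom.comp (intRing φ E.unop).subtype)).codRestrict (intRing φ E'.unop)
      fun x => map_mem_intRing φ g.unop x.1 x.2)
  map_id E := CommRingCat.hom_ext (RingHom.ext fun x => Subtype.ext (by
    show A.obj.map (𝟙 E) x.1 = x.1
    rw [CategoryTheory.Functor.map_id]; rfl))
  map_comp g g' := CommRingCat.hom_ext (RingHom.ext fun x => Subtype.ext (by
    show A.obj.map (g ≫ g') x.1 = A.obj.map g' (A.obj.map g x.1)
    rw [Functor.map_comp]; rfl))

variable [(algMod φ).IsQuasicoherent]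

theorem mem_intRing_of_local {E : EtOver X} (s : A.obj.obj (op E)) (R : Sieve E) (hR : R ∈ etTop X E)
    (h : ∀ ⦃Y : EtOver X⦄ (g : Y ⟶ E), R g → A.obj.map g.op s ∈ intRing φ Y) : s ∈ intRing φ E := by
  intro W _ k
  refine mem_submodule_of_local (M := algMod φ) (good_of_isQuasicoherent W) (intSub φ W) _ (R.pullback k)
    ((etTop X).pullback_stable k hR) fun Z _ l hl => ?_
  have h' := h (l ≫ k) hl (𝟙 Z)
  obtain ⟨z, hz⟩ := intSub_le_range_lift φ l h'
  refine ⟨z, hz.trans ?_⟩
  show A.obj.map (𝟙 Z).op (A.obj.map (l ≫ k).op s) = A.obj.map l.op (A.obj.map k.op s)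
  rw [op_id, CategoryTheory.Functor.map_id, op_comp, Functor.map_comp]
  rfl

theorem isSheaf_intPre : Presheaf.IsSheaf (etTop X) (intPre φ) := by
  rw [Presheaf.isSheaf_iff_isSheaf_comp (etTop X) (intPre φ) (CategoryTheory.forget CommRingCat.{u + 1}),
    isSheaf_iff_isSheaf_of_type]
  intro E R hR
  have hA := ((isSheaf_iff_isSheaf_of_type _ _).1 (Presheaf.isSheaf_comp_of_isSheaf (etTop X) A.obj
    (CategoryTheory.forget CommRingCat.{u + 1}) A.property)) R hR
  intro x hx
  let y : Presieve.FamilyOfElements (A.obj ⋙ CategoryTheory.forget CommRingCat.{u + 1}) R.arrows :=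
    fun Y g hg => (x g hg).1
  have hy : y.Compatible := fun Y₁ Y₂ Z g₁ g₂ f₁ f₂ h₁ h₂ e => congrArg Subtype.val (hx g₁ g₂ h₁ h₂ e)
  obtain ⟨s, hs, hu⟩ := hA y hy
  have hmem : s ∈ intRing φ E := mem_intRing_of_local φ s R hR fun Y g hg => by
    rw [show A.obj.map g.op s = (x g hg).1 from hs g hg]
    exact (x g hg).2
  exact ⟨⟨s, hmem⟩, fun Y g hg => Subtype.ext (hs g hg),
    fun s' hs' => Subtype.ext (hu s'.1 fun Y g hg => congrArg Subtype.val (hs' g hg))⟩

/-- the sheaf of locally integral sections -/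
noncomputable def intSh : EtSh X CommRingCat.{u + 1} := ⟨intPre φ, isSheaf_intPre φ⟩

/-- its inclusion -/
noncomputable def intι : intSh φ ⟶ A :=
  ⟨{ app := fun E => CommRingCat.ofHom (intRing φ E.unop).subtype
     naturality := fun {E E'} g => CommRingCat.hom_ext (RingHom.ext fun x => rfl) }⟩

/-- the structure map -/
noncomputable def intφ : OEt X ⟶ intSh φ :=
  ⟨{ app := fun E => CommRingCat.ofHom ((φ.hom.app E).hom.codRestrict (intRing φ E.unop) fun a W _ k => by
        rw [← NatTrans.naturality_apply φ.hom k.op a]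
        exact (aHom φ W).isIntegralElem_map (x := ULift.down ((OEt X).obj.map k.op a)))
     naturality := fun {E E'} g => CommRingCat.hom_ext (RingHom.ext fun a =>
       Subtype.ext (NatTrans.naturality_apply φ.hom g a)) }⟩

theorem isQuasicoherent_intMod : (algMod (intφ φ)).IsQuasicoherent := isQuasicoherent_of_good fun E _ => by
  intro E' _ g
  have := Tw.flat g
  let ι' : ∀ W, sectModEt (algMod (intφ φ)) W →ₗ[Γo W] sectModEt (algMod φ) W := fun W =>
    { toFun := fun x => Subtype.val (p := fun y => y ∈ intRing φ W) x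
      map_add' := fun _ _ => rfl
      map_smul' := fun _ _ => rfl }
  have hι : ∀ W, Function.Injective (ι' W) := fun W => Subtype.val_injective
  have key : ∀ z, ι' E' (lift g (LinearMap.id : sectModEt (algMod (intφ φ)) E →ₗ[Γo E] _) z) =
      lift g (LinearMap.id : sectModEt (algMod φ) E →ₗ[Γo E] _) ((ι' E).lTensor (Tw g) z) := fun z => by
    induction z using TensorProduct.induction_on with
    | zero => rw [map_zero, map_zero, map_zero, map_zero]
    | tmul a n => rw [lift_tmul, LinearMap.lTensor_tmul, lift_tmul, map_smul]; rfl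
    | add x y hx hy => rw [map_add, map_add, map_add, map_add, hx, hy]
  refine ⟨fun a b e => ?_, fun w => ?_⟩
  · refine Module.Flat.lTensor_preserves_injective_linearMap _ (hι E) ((good_of_isQuasicoherent (M := algMod φ) E g).1 ?_)
    rw [← key, ← key, e]
  · obtain ⟨z, hz⟩ := intSub_le_range_lift φ g ((mem_intRing_iff φ _).1 w.2)
    let j : intSub φ E →ₗ[Γo E] sectModEt (algMod (intφ φ)) E :=
      { toFun := fun s => (⟨s.1, (mem_intRing_iff φ _).2 s.2⟩ : intRing φ E)
        map_add' := fun _ _ => rfl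
        map_smul' := fun _ _ => rfl }
    refine ⟨j.lTensor (Tw g) z, hι E' ?_⟩
    rw [key, ← LinearMap.lTensor_comp_apply, show ι' E ∘ₗ j = (intSub φ E).subtype from LinearMap.ext fun _ => rfl]
    exact ((lift_comp g LinearMap.id (intSub φ E).subtype z).symm.trans
      (congrArg (fun ψ => lift g ψ z) (LinearMap.id_comp _))).trans hz

theorem exists_integralClosure : ∃ (A' : EtSh X CommRingCat.{u + 1}) (ι : A' ⟶ A) (φ' : OEt X ⟶ A'),
    φ' ≫ ι = φ ∧ (∀ E : EtOver X, Function.Injective (ι.hom.app (op E))) ∧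
    (∀ E : EtOver X, IsAffine E.obj.left.left → ∀ x : A.obj.obj (op E),
      x ∈ Set.range (ι.hom.app (op E)) ↔ (φ.hom.app (op E)).hom.IsIntegralElem x) ∧
    (algMod φ').IsQuasicoherent := by
  refine ⟨intSh φ, intι φ, intφ φ, rfl, fun E => Subtype.val_injective, fun E hE x => ?_, isQuasicoherent_intMod φ⟩
  have h1 : x ∈ Set.range ((intι φ).hom.app (op E)) ↔ x ∈ intRing φ E :=
    ⟨fun ⟨y, hy⟩ => hy ▸ y.2, fun h => ⟨⟨x, h⟩, rfl⟩⟩
  rw [h1, mem_intRing_iff]
  constructor
  · rintro ⟨p, hp, hx⟩
    exact ⟨p.map _, hp.map _, (Polynomial.eval₂_map _ _ _).trans hx⟩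
  · rintro ⟨p, hp, hx⟩
    refine ⟨p.map (ULift.ringEquiv : (OEt X).obj.obj (op E) ≃+* Γo E).toRingHom, hp.map _, ?_⟩
    rw [Polynomial.eval₂_map]
    exact hx

end Groth.Agent.QcohSub14
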