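import Groth.Agent.Lib.QcohEt15.SuppSplit
import Groth.Agent.Lib.QcohEt15.Presented
import Groth.Agent.Lib.QcohEt15.Finite

/-! The largest quasi-coherent submodule of a submodule of a quasi-coherent module. -/

universe u v

open CategoryTheory CategoryTheory.Limits AlgebraicGeometry Opposite TensorProduct

set_option linter.style.haveILetI false
set_option backward.isDefEq.respectTransparency false

namespace Groth.Agent.QcohSub14

open AlgSp Groth.Agent.QcohEt15

variable {S : Scheme.{u}} {X : Sp S} {F G : ModEt X} (ι : G ⟶ F)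

/-- sections on `E` coming from quasi-coherent modules mapping to `G`, spanned -/
noncomputable def qSpan (E : EtOver X) : Submodule (Γo E) (sectModEt F E) :=
  Submodule.span (Γo E) {s | ∃ (H : ModEt X) (_ : H.IsQuasicoherent) (φ : H ⟶ G) (t : sectModEt H E), appₗ (φ ≫ ι) E t = s}

theorem res_mem_qSpan {E W : EtOver X} (k : W ⟶ E) {s : sectModEt F E} (hs : s ∈ qSpan ι E) :
    res F k s ∈ qSpan ι W := by
  induction hs using Submodule.span_induction with
  | mem x hx =>
    obtain ⟨H, hH, φ, t, rfl⟩ := hx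
    exact Submodule.subset_span ⟨H, hH, φ, res H k t, appₗ_res _ _ _⟩
  | zero => rw [map_zero]; exact zero_mem _
  | add x y _ _ hx hy => rw [map_add]; exact add_mem hx hy
  | smul r x _ hx => rw [res_smul]; exact (qSpan ι W).smul_mem _ hx

theorem qSpan_le_range_lift {E Z : EtOver X} [IsAffine E.obj.left.left] [IsAffine Z.obj.left.left] (k : Z ⟶ E) :
    qSpan ι Z ≤ LinearMap.range (liftₗ k (qSpan ι E).subtype) := by
  refine Submodule.span_le.2 ?_
  rintro _ ⟨H, hH, φ, t, rfl⟩
  obtain ⟨z, hz⟩ := appₗ_mem_range_lift (φ ≫ ι) (good_of_isQuasicoherent (hM := hH) E) k t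
  have hle : LinearMap.range (appₗ (φ ≫ ι) E) ≤ qSpan ι E := by
    rintro _ ⟨t', rfl⟩
    exact Submodule.subset_span ⟨H, hH, φ, t', rfl⟩
  refine ⟨(Submodule.inclusion hle).lTensor (Tw k) z, ?_⟩
  show lift k _ _ = _
  rw [← lift_comp]
  exact hz

/-- the largest quasi-coherent submodule -/
noncomputable def qIn : F.val.Submodule where
  obj E :=
    { carrier := {s : sectModEt F E.unop | ∀ ⦃W : EtOver X⦄ [IsAffine W.obj.left.left] (k : W ⟶ E.unop), res F k s ∈ qSpan ι W}
      add_mem' := fun {a b} ha hb W _ k => by rw [map_add]; exact add_mem (ha k) (hb k)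
      zero_mem' := fun W _ k => by rw [map_zero]; exact zero_mem _
      smul_mem' := fun r {a} ha W _ k => by
        have h : res F k (r • a) = γ k (ULift.down r) • res F k a := res_smul F k (ULift.down r) a
        rw [h]
        exact (qSpan ι W).smul_mem _ (ha k) }
  map {E E'} g := fun s hs W _ k => by
    change res F k (res F g.unop s) ∈ _
    rw [← res_comp]
    exact hs (k ≫ g.unop)

theorem mem_qIn_iff {E : EtOver X} [IsAffine E.obj.left.left] (s : sectModEt F E) :
    s ∈ (qIn ι).obj (op E) ↔ s ∈ qSpan ι E :=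
  ⟨fun h => by have := h (𝟙 E); rwa [res_id] at this, fun h W _ k => res_mem_qSpan ι k h⟩

variable [F.IsQuasicoherent]

theorem isLocalSub_qIn : IsLocalSub (qIn ι) := by
  intro E s R hR h W _ k
  refine mem_submodule_of_local (good_of_isQuasicoherent W) (qSpan ι W) _ (R.pullback k)
    ((etTop X).pullback_stable k hR) fun Z _ l hl => ?_
  obtain ⟨z, hz⟩ := qSpan_le_range_lift ι l (h (l ≫ k) hl (𝟙 Z))
  exact ⟨z, hz.trans (by rw [res_id, res_comp])⟩

/-- as a module -/
noncomputable def qMod : ModEt X := subMod (qIn ι) (isLocalSub_qIn ι)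

/-- its inclusion -/
noncomputable def qι : qMod ι ⟶ F := subι (qIn ι) (isLocalSub_qIn ι)

instance mono_qι : Mono (qι ι) := by
  have : Mono ((SheafOfModules.forget (OEtRing X)).map (qι ι)) := inferInstanceAs (Mono (qIn ι).ι)
  exact (SheafOfModules.forget (OEtRing X)).mono_of_mono_map this

theorem isQuasicoherent_qMod : (qMod ι).IsQuasicoherent := isQuasicoherent_of_good fun E _ => by
  intro E' _ g
  have := Tw.flat g
  have hinj : Function.Injective ((appₗ (qι ι) E).lTensor (Tw g)) :=
    Module.Flat.lTensor_preserves_injective_linearMap _ (appₗ_injective _ E)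
  refine ⟨fun a b e => hinj ((good_of_isQuasicoherent (M := F) E g).1 ?_), fun w => ?_⟩
  · rw [← lift_appₗ_id, ← lift_appₗ_id, e]
  obtain ⟨z, hz⟩ := qSpan_le_range_lift ι g ((mem_qIn_iff ι _).1 w.2)
  let j : qSpan ι E →ₗ[Γo E] sectModEt (qMod ι) E :=
    { toFun := fun s => ⟨s.1, (mem_qIn_iff ι s.1).2 s.2⟩
      map_add' := fun a b => appₗ_injective (qι ι) E (by rw [map_add]; rfl)
      map_smul' := fun r a => appₗ_injective (qι ι) E (by rw [RingHom.id_apply, map_smul]; rfl) }
  refine ⟨j.lTensor (Tw g) z, appₗ_injective (qι ι) E' ?_⟩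
  rw [lift_appₗ_id, ← LinearMap.lTensor_comp_apply,
    show appₗ (qι ι) E ∘ₗ j = (qSpan ι E).subtype from LinearMap.ext fun _ => rfl]
  exact ((lift_comp g LinearMap.id (qSpan ι E).subtype z).symm.trans
    (congrArg (fun ψ => lift g ψ z) (LinearMap.id_comp _))).trans hz

variable [Mono ι]

theorem exists_preimage {E : EtOver X} (s : sectModEt F E) (hs : s ∈ (qIn ι).obj (op E)) :
    ∃ t : sectModEt G E, appₗ ι E t = s := by
  have hA : ∀ O : E.obj.left.left.affineOpens,
      ∃ m, appₗ ι (AlgSpEt14.openSub E O.1) m = res F (AlgSpEt14.openSubι E O.1) s := fun O => by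
    have : IsAffine (AlgSpEt14.openSub E O.1).obj.left.left := O.2
    have h := hs (AlgSpEt14.openSubι E O.1)
    have hle : qSpan ι (AlgSpEt14.openSub E O.1) ≤ LinearMap.range (appₗ ι (AlgSpEt14.openSub E O.1)) := by
      refine Submodule.span_le.2 ?_
      rintro _ ⟨H, _, φ, t, rfl⟩
      exact ⟨appₗ φ _ t, rfl⟩
    exact hle h
  choose m hm using hA
  obtain ⟨m₀, hm₀⟩ := exists_glue_family G
    (fun O : ULift.{u + 1} E.obj.left.left.affineOpens => AlgSpEt14.openSub E O.down.1)
    (fun O => AlgSpEt14.openSubι E O.down.1) (fun x => by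
      obtain ⟨O, hO⟩ := exists_openSub_mem E x
      exact ⟨⟨O⟩, hO⟩) (fun O => m O.down) fun i j Z a b hab => appₗ_injective ι Z (by
        rw [appₗ_res, appₗ_res, hm, hm, ← res_comp F (AlgSpEt14.openSubι E i.down.1) a, hab, res_comp])
  refine ⟨m₀, sections_ext_family F (fun O : E.obj.left.left.affineOpens => AlgSpEt14.openSub E O.1)
    (fun O => AlgSpEt14.openSubι E O.1) (exists_openSub_mem E) fun O => ?_⟩
  rw [← appₗ_res, ← hm O]
  exact congrArg _ (hm₀ ⟨O⟩)

/-- the corestriction to `G` -/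
noncomputable def qκ : qMod ι ⟶ G :=
  let t : ∀ E : EtOver X, sectModEt (qMod ι) E → sectModEt G E := fun E w => (exists_preimage ι w.1 w.2).choose
  have ht : ∀ E w, appₗ ι E (t E w) = appₗ (qι ι) E w := fun E w => (exists_preimage ι w.1 w.2).choose_spec
  ⟨PresheafOfModules.homMk
    { app := fun E => AddCommGrpCat.ofHom (AddMonoidHom.mk' (t E.unop) fun a b => appₗ_injective ι E.unop (by
        rw [ht, map_add, map_add, ht, ht]))
      naturality := fun {E E'} g => AddCommGrpCat.hom_ext (AddMonoidHom.ext fun w => appₗ_injective ι E'.unop (by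
        show appₗ ι E'.unop (t E'.unop (res (qMod ι) g.unop w)) = appₗ ι E'.unop (res G g.unop (t E.unop w))
        rw [ht, appₗ_res ι, ht, appₗ_res])) }
    fun E r (w : sectModEt (qMod ι) E.unop) => appₗ_injective ι E.unop (by
      show appₗ ι E.unop (t E.unop ((ULift.down r : Γo E.unop) • w)) =
        appₗ ι E.unop ((ULift.down r : Γo E.unop) • t E.unop w)
      rw [ht, map_smul, map_smul, ht])⟩

theorem qκ_comp : qκ ι ≫ ι = qι ι := by
  refine SheafOfModules.hom_ext (PresheafOfModules.hom_ext fun E => ModuleCat.hom_ext (LinearMap.ext fun w => ?_))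
  exact (exists_preimage ι (E := E.unop) w.1 w.2).choose_spec

theorem exists_largest {F G : ModEt X} [F.IsQuasicoherent] (ι : G ⟶ F) [Mono ι] :
    ∃ (G' : ModEt X) (κ : G' ⟶ G), Mono κ ∧ G'.IsQuasicoherent ∧
      ∀ H : ModEt X, H.IsQuasicoherent → Function.Bijective (fun φ : H ⟶ G' => φ ≫ κ) := by
  haveI : Mono (qκ ι ≫ ι) := by rw [qκ_comp]; infer_instance
  haveI : Mono (qκ ι) := mono_of_mono (qκ ι) ι
  refine ⟨qMod ι, qκ ι, inferInstance, isQuasicoherent_qMod ι, fun H hH => ⟨fun a b h => (cancel_mono _).1 h, fun φ => ?_⟩⟩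
  have hmem : ∀ (E : EtOver X) (s : sectModEt H E), appₗ (φ ≫ ι) E s ∈ (qIn ι).obj (op E) := fun E s W _ k => by
    rw [← appₗ_res]
    exact Submodule.subset_span ⟨H, hH, φ, _, rfl⟩
  let ψ : H ⟶ qMod ι := ⟨PresheafOfModules.homMk
    { app := fun E => AddCommGrpCat.ofHom (AddMonoidHom.mk'
        (fun s : sectModEt H E.unop => (⟨appₗ (φ ≫ ι) E.unop s, hmem E.unop s⟩ : sectModEt (qMod ι) E.unop))
        fun a b => Subtype.ext (map_add (appₗ (φ ≫ ι) E.unop) a b))
      naturality := fun {E E'} g => AddCommGrpCat.hom_ext (AddMonoidHom.ext fun s =>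
        Subtype.ext (appₗ_res (φ ≫ ι) g.unop s)) }
    fun E r s => Subtype.ext ((appₗ (φ ≫ ι) E.unop).map_smul (ULift.down r : Γo E.unop) s)⟩
  refine ⟨ψ, (cancel_mono ι).1 ?_⟩
  rw [Category.assoc, qκ_comp]
  rfl

end Groth.Agent.QcohSub14
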