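import Groth.Agent.Lib.QcohSub14.Largest
import Groth.Agent.Lib.QcohSub14.AnnIdeal
import Groth.Agent.Lib.EtPush14.Mod

/-! The right adjoint of direct image of quasi-coherent modules along a closed immersion. -/

universe u v

open CategoryTheory CategoryTheory.Limits AlgebraicGeometry Opposite

set_option linter.style.haveILetI false
set_option backward.isDefEq.respectTransparency false
set_option backward.isDefEq.respectTransparency.types false

namespace Groth.Agent.QcohSub14

open AlgSp Groth.Agent.QcohEt15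

variable {S : Scheme.{u}} {Z : Sp S} {X : Space S} {f : Z ⟶ X.obj} (hi : RepWith @IsClosedImmersion f)

theorem exists_universal (hq : ∀ G : ModEt Z, G.IsQuasicoherent → ((pushModEt hi.1).obj G).IsQuasicoherent)
    (F : ModEt X.obj) [F.IsQuasicoherent] :
    ∃ (R : ModEt Z) (ε : (pushModEt hi.1).obj R ⟶ F), R.IsQuasicoherent ∧
      ∀ G : ModEt Z, G.IsQuasicoherent →
        Function.Bijective (fun a : G ⟶ R => (pushModEt hi.1).map a ≫ ε) := by
  let I := idealOfRep hi.1
  let A := annMod F I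
  let α : A ⟶ F := annι F I
  obtain ⟨G', κ, hκ, hG', huniv⟩ := exists_largest α
  haveI := hG'
  haveI := hκ
  have hM : ∀ (E : EtOver X.obj) [IsAffine E.obj.left.left], Good G' E := fun E _ => good_of_isQuasicoherent E
  haveI := isIso_of_bijective_affine (Pull.unitQ hi.1 hM) fun E hE => bijective_unit hi hM (fun E' hE' a ha s => by
    refine appₗ_injective (κ ≫ α) E' ?_
    rw [map_smul, map_zero]
    have h := (appₗ κ E' s).2 hE' (𝟙 E') a ha
    rwa [res_id] at h) E
  let u := Pull.unitQ hi.1 hM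
  refine ⟨Pull.pullQ f G' hM, inv u ≫ κ ≫ α, Pull.isQuasicoherent_pullQ hi.1 hM, fun G hG => ?_⟩
  obtain ⟨hfull, hfaith⟩ := Groth.Agent.EtPush14.pushModEt_fullyFaithful hi
  refine ⟨fun a b e => ?_, fun φ => ?_⟩
  · haveI : Mono (κ ≫ α) := mono_comp κ α
    exact (pushModEt hi.1).map_injective ((cancel_mono (inv u ≫ κ ≫ α)).1 e)
  · have hmem : ∀ (E : EtOver X.obj) (s : sectModEt ((pushModEt hi.1).obj G) E),
        appₗ φ E s ∈ (annIn F I).obj (op E) := fun E s W hW k a ha => by
      rw [← appₗ_res, ← map_smul]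
      have h0 : a • res ((pushModEt hi.1).obj G) k s = (0 : sectModEt ((pushModEt hi.1).obj G) W) := by
        refine (pushOut_smul hi.1 a _).trans ?_
        rw [show bγ hi.1 W a = 0 from ha, zero_smul]
      rw [h0, map_zero]
    let φ' : (pushModEt hi.1).obj G ⟶ A := ⟨PresheafOfModules.homMk
      { app := fun E => AddCommGrpCat.ofHom (AddMonoidHom.mk'
          (fun s : sectModEt ((pushModEt hi.1).obj G) E.unop => (⟨appₗ φ E.unop s, hmem E.unop s⟩ : sectModEt A E.unop))
          fun a b => Subtype.ext (map_add (appₗ φ E.unop) a b))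
        naturality := fun {E E'} g => AddCommGrpCat.hom_ext (AddMonoidHom.ext fun s =>
          Subtype.ext (appₗ_res φ g.unop s)) }
      fun E r s => Subtype.ext ((appₗ φ E.unop).map_smul (ULift.down r : Γo E.unop) s)⟩
    obtain ⟨ψ, hψ⟩ := (huniv _ (hq G hG)).2 φ'
    obtain ⟨a, ha⟩ := (pushModEt hi.1).map_surjective (ψ ≫ u)
    refine ⟨a, ?_⟩
    show (pushModEt hi.1).map a ≫ inv u ≫ κ ≫ α = φ
    rw [ha, Category.assoc, IsIso.hom_inv_id_assoc, ← Category.assoc, show ψ ≫ κ = φ' from hψ]
    rfl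

theorem isLeftAdjoint_pushModEt_qcoh (hq : ∀ G : ModEt Z, G.IsQuasicoherent → ((pushModEt hi.1).obj G).IsQuasicoherent) :
    ((SheafOfModules.isQuasicoherent (OEtRing X.obj)).lift
        ((SheafOfModules.isQuasicoherent (OEtRing Z)).ι ⋙ pushModEt hi.1)
        (fun G => hq G.obj G.property)).IsLeftAdjoint := by
  let L := (SheafOfModules.isQuasicoherent (OEtRing X.obj)).lift
    ((SheafOfModules.isQuasicoherent (OEtRing Z)).ι ⋙ pushModEt hi.1) (fun G => hq G.obj G.property)
  choose R ε hR hb using fun F : (SheafOfModules.isQuasicoherent (OEtRing X.obj)).FullSubcategory =>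
    @exists_universal _ _ _ _ hi hq F.obj F.property
  let R' : _ → (SheafOfModules.isQuasicoherent (OEtRing Z)).FullSubcategory := fun F => ⟨R F, hR F⟩
  let e : ∀ G F, (L.obj G ⟶ F) ≃ (G ⟶ R' F) := fun G F => (Equiv.ofBijective
    (fun a : G ⟶ R' F => (ObjectProperty.homMk ((pushModEt hi.1).map a.hom ≫ ε F) : L.obj G ⟶ F))
    ⟨fun a b h => ObjectProperty.hom_ext _ ((hb F G.obj G.property).1 (congrArg (fun t => t.hom) h)),
      fun φ => let ⟨a, ha⟩ := (hb F G.obj G.property).2 φ.hom
        ⟨ObjectProperty.homMk a, ObjectProperty.hom_ext _ ha⟩⟩).symm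
  refine (Adjunction.adjunctionOfEquivRight (F := L) e fun G' G F g φ => ?_).isLeftAdjoint
  rw [Equiv.symm_apply_eq]
  refine ObjectProperty.hom_ext _ ?_
  show (pushModEt hi.1).map g.hom ≫ φ.hom = (pushModEt hi.1).map (g.hom ≫ (e G F φ).hom) ≫ ε F
  rw [Functor.map_comp, Category.assoc]
  refine congrArg ((pushModEt hi.1).map g.hom ≫ ·) ?_
  exact (congrArg (fun t => t.hom) ((e G F).symm_apply_apply φ)).symm

end Groth.Agent.QcohSub14
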